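/-
A Sylow-local criterion for the triviality of a Schur multiplier.
-/
import Cfsg.Agent.FGSB.StemExt
import Mathlib.GroupTheory.Transfer
import Mathlib.GroupTheory.Abelianization.Defs
import Mathlib.GroupTheory.Sylow
import Mathlib.GroupTheory.Perm.Cycle.Type

set_option autoImplicit false

namespace CfsgLib.SL2Mult

open Subgroup

variable {Γ Q : Type*} [Group Γ] [Group Q] [Finite Γ]

/-- The restriction of a stem extension to a Sylow subgroup is a stem extension. -/
theorem isStemExtension_sylow {σ : Γ →* Q} (hσ : Cfsg.IsStemExtension σ) {ℓ : ℕ} [Fact ℓ.Prime]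
    (P : Sylow ℓ Γ) : Cfsg.IsStemExtension (σ.subgroupMap (P : Subgroup Γ)) := by
  refine ⟨σ.subgroupMap_surjective _, fun z hz => ?_, fun z hz => ?_⟩
  · have hz' : (z : Γ) ∈ σ.ker := congrArg Subtype.val hz
    exact mem_center_iff.2 fun w => Subtype.ext (mem_center_iff.1 (hσ.2.1 hz') w)
  · have hz' : (z : Γ) ∈ σ.ker := congrArg Subtype.val hz
    have hcen := mem_center_iff.1 (hσ.2.1 hz')
    let φ : (P : Subgroup Γ) →* Abelianization (P : Subgroup Γ) := Abelianization.of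
    have key : ∀ (k : ℕ) (g₀ : Γ), g₀⁻¹ * (z : Γ) ^ k * g₀ ∈ (P : Subgroup Γ) →
        g₀⁻¹ * (z : Γ) ^ k * g₀ = (z : Γ) ^ k := fun k g₀ _ => by
      rw [mul_assoc, ← ((show Commute g₀ (z : Γ) from hcen g₀).pow_right k).eq, inv_mul_cancel_left]
    have h1 : φ.transfer (z : Γ) = 1 := Abelianization.commutator_subset_ker φ.transfer (hσ.2.2 hz')
    rw [MonoidHom.transfer_eq_pow φ (z : Γ) key] at h1
    have h2 : z ^ (P : Subgroup Γ).index ∈ commutator (P : Subgroup Γ) := by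
      rw [← Abelianization.ker_of, MonoidHom.mem_ker]
      exact (congrArg φ (Subtype.ext (by simp))).trans h1
    obtain ⟨k, hk⟩ := (IsPGroup.iff_orderOf.1 P.isPGroup') z
    have hcop : Nat.Coprime (P : Subgroup Γ).index (orderOf z) := by
      rw [hk]
      exact Nat.Coprime.pow_right _ (((Fact.out : ℓ.Prime).coprime_iff_not_dvd.2 P.not_dvd_index).symm)
    obtain ⟨j, hj⟩ := exists_pow_eq_self_of_coprime hcop
    rw [← hj]
    exact pow_mem h2 j

/-- If every restriction to a Sylow subgroup has trivial kernel, so has the extension. -/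
theorem ker_eq_bot_of_sylow {σ : Γ →* Q}
    (h : ∀ (ℓ : ℕ) (_ : Fact ℓ.Prime) (P : Sylow ℓ Γ), (σ.subgroupMap (P : Subgroup Γ)).ker = ⊥) :
    σ.ker = ⊥ := by
  by_contra hne
  have : Nontrivial σ.ker := (Subgroup.nontrivial_iff_ne_bot _).2 hne
  obtain ⟨ℓ, hℓ, hdvd⟩ := Nat.exists_prime_and_dvd (n := Nat.card σ.ker)
    (Finite.one_lt_card.ne')
  have := Fact.mk hℓ
  obtain ⟨z, hz⟩ := exists_prime_orderOf_dvd_card' ℓ hdvd
  have hP : IsPGroup ℓ (zpowers (z : Γ)) := IsPGroup.of_card (n := 1) (by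
    rw [Nat.card_zpowers, Subgroup.orderOf_coe, hz, pow_one])
  obtain ⟨P, hzP⟩ := hP.exists_le_sylow
  have h1 : (⟨(z : Γ), hzP (mem_zpowers _)⟩ : (P : Subgroup Γ)) ∈ (σ.subgroupMap (P : Subgroup Γ)).ker :=
    Subtype.ext z.2
  rw [h ℓ inferInstance P, mem_bot] at h1
  have h1' : (z : Γ) = 1 := congrArg Subtype.val h1
  have h2 : z = 1 := Subtype.ext h1'
  rw [h2, orderOf_one] at hz
  exact hℓ.one_lt.ne hz

end CfsgLib.SL2Mult
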