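/-
Biadditive pairings on a finite field invariant under squares of scalars vanish unless `|F| ∈ {4, 9}`.
-/
import Mathlib.FieldTheory.Finite.Basic
import Mathlib.Algebra.Polynomial.Roots
import Mathlib.RingTheory.IntegralDomain

set_option autoImplicit false

namespace CfsgLib.SL2Mult

open Polynomial

variable {F : Type*} [Field F] [Fintype F] {Γ : Type*} [Group Γ]

/-- Roots of a family of monic quadratics. -/
theorem card_le_of_quadratic [DecidableEq F] (T : Finset (F × F))
    (h : ∀ a : F, a = 0 ∨ a = -1 ∨ ∃ c ∈ T, a ^ 2 + c.1 * a + c.2 = 0) :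
    Fintype.card F ≤ 2 + 2 * T.card := by
  let S := T.biUnion fun c => (X ^ 2 + C c.1 * X + C c.2 : F[X]).roots.toFinset
  have hsub : (Finset.univ : Finset F) ⊆ {0, -1} ∪ S := by
    intro a _
    rcases h a with h' | h' | ⟨c, hc, e⟩
    · simp [h']
    · simp [h']
    · refine Finset.mem_union_right _ (Finset.mem_biUnion.2 ⟨c, hc, ?_⟩)
      rw [Multiset.mem_toFinset, mem_roots']
      refine ⟨fun e0 => ?_, by simpa using e⟩
      have := congrArg (fun f : F[X] => f.coeff 2) e0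
      simp [coeff_X] at this
  have h1 : ∀ c : F × F, (X ^ 2 + C c.1 * X + C c.2 : F[X]).roots.toFinset.card ≤ 2 := fun c => by
    refine (Multiset.toFinset_card_le _).trans ((card_roots' _).trans ?_)
    compute_degree
  calc Fintype.card F = (Finset.univ : Finset F).card := rfl
    _ ≤ ({0, -1} ∪ S).card := Finset.card_le_card hsub
    _ ≤ ({0, -1} : Finset F).card + S.card := Finset.card_union_le _ _
    _ ≤ 2 + T.card * 2 := add_le_add Finset.card_le_two
        (Finset.card_biUnion_le_card_mul _ _ _ fun c _ => h1 c)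
    _ = 2 + 2 * T.card := by ring

/-- The pairing vanishes. -/
theorem pairing_trivial (β : F → F → Γ)
    (hl : ∀ a b c, β (a + b) c = β a c * β b c) (hr : ∀ a b c, β a (b + c) = β a b * β a c)
    (hinv : ∀ t : F, t ≠ 0 → ∀ a b, β (t ^ 2 * a) (t ^ 2 * b) = β a b)
    (hq2 : (2 : F) = 0 → 4 < Fintype.card F) (hq3 : (2 : F) ≠ 0 → 10 < Fintype.card F) :
    ∀ a b, β a b = 1 := by
  classical
  by_contra hne
  simp only [not_forall] at hne
  obtain ⟨a₀, b₀, h0⟩ := hne
  have hz1 : ∀ c, β 0 c = 1 := fun c => by simpa using hl 0 0 c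
  have hz2 : ∀ c, β c 0 = 1 := fun c => by simpa using hr c 0 0
  have hn1 : ∀ a c, β (-a) c = (β a c)⁻¹ := fun a c => eq_inv_of_mul_eq_one_left (by
    rw [← hl, neg_add_cancel, hz1])
  have hn2 : ∀ a c, β a (-c) = (β a c)⁻¹ := fun a c => eq_inv_of_mul_eq_one_left (by
    rw [← hr, neg_add_cancel, hz2])
  let Φ : F → F → Prop := fun a b => ∀ x y, β (a * x) y = β x (b * y)
  have padd : ∀ a b a' b', Φ a b → Φ a' b' → Φ (a + a') (b + b') := fun a b a' b' h h' x y => by
    rw [add_mul, add_mul, hl, hr, h, h']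
  have pmul : ∀ a b a' b', Φ a b → Φ a' b' → Φ (a * a') (b * b') := fun a b a' b' h h' x y => by
    rw [mul_assoc, h, h', ← mul_assoc, mul_comm b' b]
  have pone : Φ 1 1 := fun x y => by rw [one_mul, one_mul]
  have pzero : Φ 0 0 := fun x y => by rw [zero_mul, zero_mul, hz1, hz2]
  have pneg : ∀ a b, Φ a b → Φ (-a) (-b) := fun a b h x y => by
    rw [neg_mul, neg_mul, hn1, hn2, h]
  have psq : ∀ t : F, t ≠ 0 → Φ (t ^ 2) (t⁻¹ ^ 2) := fun t ht x y => by
    have e := hinv t ht x (t⁻¹ ^ 2 * y)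
    rwa [← mul_assoc, ← mul_pow, mul_inv_cancel₀ ht, one_pow, one_mul] at e
  have puniq : ∀ a b b', Φ a b → Φ a b' → b = b' := by
    intro a b b' h h'
    by_contra hb
    refine h0 ?_
    have e := padd _ _ _ _ h (pneg _ _ h') a₀ ((b + -b')⁻¹ * b₀)
    rw [← mul_assoc, mul_inv_cancel₀ (by rwa [← sub_eq_add_neg, sub_ne_zero]), one_mul] at e
    rw [← e, add_neg_cancel, zero_mul, hz1]
  let R : Subring F :=
    { carrier := {a | ∃ b, Φ a b}
      zero_mem' := ⟨0, pzero⟩
      one_mem' := ⟨1, pone⟩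
      add_mem' := fun ⟨b, h⟩ ⟨b', h'⟩ => ⟨_, padd _ _ _ _ h h'⟩
      mul_mem' := fun ⟨b, h⟩ ⟨b', h'⟩ => ⟨_, pmul _ _ _ _ h h'⟩
      neg_mem' := fun ⟨b, h⟩ => ⟨_, pneg _ _ h⟩ }
  have hsqR : ∀ t : F, t ^ 2 ∈ R := fun t => by
    rcases eq_or_ne t 0 with rfl | ht
    · simpa using R.zero_mem
    · exact ⟨_, psq t ht⟩
  have hall : ∀ a, ∃ b, Φ a b := by
    intro a
    show a ∈ R
    by_cases h2 : (2 : F) = 0
    · obtain ⟨c, rfl⟩ : ∃ c, c ^ 2 = a := by
        have : CharP F 2 := (CharP.charP_iff_prime_eq_zero Nat.prime_two).2 h2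
        exact (Finite.injective_iff_surjective.1 (CharTwo.sq_injective (R := F))) a
      exact hsqR c
    · have h4 : a = (2⁻¹ : F) ^ 2 * ((a + 1) ^ 2 - (a - 1) ^ 2) := by field_simp; ring
      rw [h4]
      exact R.mul_mem (hsqR _) (R.sub_mem (hsqR _) (hsqR _))
  choose θ hθ using hall
  have hθadd : ∀ a b, θ (a + b) = θ a + θ b := fun a b =>
    puniq _ _ _ (hθ _) (padd _ _ _ _ (hθ a) (hθ b))
  have hθmul : ∀ a b, θ (a * b) = θ a * θ b := fun a b =>
    puniq _ _ _ (hθ _) (pmul _ _ _ _ (hθ a) (hθ b))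
  have hθone : θ 1 = 1 := puniq _ _ _ (hθ _) pone
  have hpm : ∀ a : F, a ≠ 0 → θ a = a⁻¹ ∨ θ a = -a⁻¹ := fun a ha => by
    rw [← sq_eq_sq_iff_eq_or_eq_neg, pow_two, ← hθmul]
    exact puniq _ _ _ (hθ _) (by rw [← pow_two]; exact psq a ha)
  by_cases h2 : (2 : F) = 0
  · have hq := hq2 h2
    have := card_le_of_quadratic ({(1, 1)} : Finset (F × F)) fun a => by
      by_cases ha : a = 0
      · exact Or.inl ha
      by_cases ha1 : a = -1
      · exact Or.inr (Or.inl ha1)
      refine Or.inr (Or.inr ⟨_, Finset.mem_singleton_self _, ?_⟩)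
      have h1a : (1 + a : F) ≠ 0 := fun e => ha1 (by linear_combination e)
      have n1 : θ a = a⁻¹ := (hpm a ha).elim id fun e => by
        rw [e]; linear_combination (-a⁻¹) * h2
      have n2 : θ (1 + a) = (1 + a)⁻¹ := (hpm _ h1a).elim id fun e => by
        rw [e]; linear_combination (-(1 + a)⁻¹) * h2
      have e := hθadd 1 a
      rw [hθone, n1, n2] at e
      field_simp at e
      linear_combination -e
    simp at this
    omega
  · have hq := hq3 h2
    have := card_le_of_quadratic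
      ((({1, -1} : Finset F) ×ˢ ({1, -1} : Finset F)).image fun e => (1 + e.1 - e.2, e.1)) fun a => by
      by_cases ha : a = 0
      · exact Or.inl ha
      by_cases ha1 : a = -1
      · exact Or.inr (Or.inl ha1)
      refine Or.inr (Or.inr ?_)
      have h1a : (1 + a : F) ≠ 0 := fun e => ha1 (by linear_combination e)
      obtain ⟨ε, hε, eε⟩ : ∃ ε ∈ ({1, -1} : Finset F), θ a = ε * a⁻¹ := by
        rcases hpm a ha with e | e
        · exact ⟨1, by simp, by rw [e, one_mul]⟩
        · exact ⟨-1, by simp, by rw [e, neg_one_mul]⟩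
      obtain ⟨δ, hδ, eδ⟩ : ∃ δ ∈ ({1, -1} : Finset F), θ (1 + a) = δ * (1 + a)⁻¹ := by
        rcases hpm _ h1a with e | e
        · exact ⟨1, by simp, by rw [e, one_mul]⟩
        · exact ⟨-1, by simp, by rw [e, neg_one_mul]⟩
      refine ⟨_, Finset.mem_image.2 ⟨(ε, δ), Finset.mem_product.2 ⟨hε, hδ⟩, rfl⟩, ?_⟩
      have e := hθadd 1 a
      rw [hθone, eε, eδ] at e
      field_simp at e
      linear_combination -e
    have h4 := (Finset.card_image_le (s := ({1, -1} : Finset F) ×ˢ ({1, -1} : Finset F))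
      (f := fun e => (1 + e.1 - e.2, e.1)))
    rw [Finset.card_product] at h4
    have h5 : ({1, -1} : Finset F).card ≤ 2 := Finset.card_le_two
    have h6 := Nat.mul_le_mul h5 h5
    omega

end CfsgLib.SL2Mult
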