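/-
The Schur multiplier of `SL₂(q)` for `q ≠ 4, 9`.
-/
import Cfsg.Agent.SL2Mult.Criterion
import Cfsg.Agent.SL2Mult.Pairing
import Cfsg.Agent.Classical.SylowTwoDim
import Cfsg.Agent.Classical.SylowTwoSL

set_option autoImplicit false

namespace CfsgLib.SL2Mult

open CfsgLib.SL2C
open scoped commutatorElement

universe u

variable {F : Type u} [Field F] [Fintype F]

/-- The upper unipotent homomorphism. -/
def upHom (F : Type u) [Field F] : Multiplicative F →* SL F where
  toFun a := bor 1 (Multiplicative.toAdd a)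
  map_one' := by
    apply mt_injective
    rw [mt_bor, mt_one, Matrix.one_fin_two]
    simp
  map_mul' a b := by
    rw [bor_mul]
    simp [add_comm]

theorem upHom_injective : Function.Injective (upHom F) := fun _ _ h => (bor_inj h).2

theorem card_upHom_range : Nat.card (upHom F).range = Fintype.card F := by
  rw [← Nat.card_congr (MonoidHom.ofInjective upHom_injective).toEquiv, Nat.card_eq_fintype_card]
  exact Fintype.card_congr Multiplicative.toAdd

theorem index_upHom_range : (upHom F).range.index = Fintype.card F ^ 2 - 1 := by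
  have h := (upHom F).range.card_mul_index
  rw [card_upHom_range, card_SL2_mul] at h
  exact Nat.eq_of_mul_eq_mul_left Fintype.card_pos h

theorem dg_conj (t : Fˣ) (a : F) : dg t * bor 1 a * (dg t)⁻¹ = bor 1 ((t : F) ^ 2 * a) := by
  rw [mul_inv_eq_iff_eq_mul]
  apply mt_injective
  rw [mt_mul, mt_mul, mt_dg, mt_bor, mt_bor, Matrix.mul_fin_two, Matrix.mul_fin_two]
  simp [pow_two, mul_comm, mul_left_comm, mul_assoc]

theorem ker_eq_bot (h4 : Fintype.card F ≠ 4) (h9 : Fintype.card F ≠ 9) {Γ : Type u} [Group Γ]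
    [Finite Γ] {σ : Γ →* SL F} (hσ : Cfsg.IsStemExtension σ) : σ.ker = ⊥ := by
  classical
  obtain ⟨p, hp⟩ := CharP.exists F
  have hpp : p.Prime := CharP.char_is_prime F p
  have := Fact.mk hpp
  obtain ⟨n, -, hn⟩ := FiniteField.card F p
  refine ker_eq_bot_of_sylow fun ℓ hℓ P => ?_
  have hstem := isStemExtension_sylow hσ P
  set Q := P.mapSurjective hσ.1 with hQdef
  have hQ : (Q : Subgroup (SL F)) = (P : Subgroup Γ).map σ := Sylow.coe_mapSurjective hσ.1 P
  by_cases hℓp : ℓ = p
  · subst hℓp
    have hidx : ¬ ℓ ∣ (upHom F).range.index := by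
      rw [index_upHom_range, hn]
      intro hd
      have h1 : ℓ ∣ (ℓ ^ (n : ℕ)) ^ 2 := dvd_pow (dvd_pow_self ℓ n.pos.ne') two_ne_zero
      have h2 := Nat.dvd_sub h1 hd
      rw [Nat.sub_sub_self (Nat.one_le_pow _ _ (pow_pos hpp.pos _))] at h2
      exact hpp.not_dvd_one h2
    obtain ⟨g, hg⟩ := sylow_exists_conj_le Q _ hidx
    rcases Nat.lt_or_ge (n : ℕ) 2 with hn2 | hn2
    · have hcard : Nat.card (upHom F).range = ℓ := by
        rw [card_upHom_range, hn, show (n : ℕ) = 1 by have := n.pos; omega, pow_one]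
      have := isCyclic_of_prime_card hcard
      have : IsCyclic ((upHom F).range.map (MulAut.conj g).toMonoidHom) :=
        isCyclic_of_surjective _ ((MulAut.conj g).toMonoidHom.subgroupMap_surjective _)
      have : IsCyclic ((P : Subgroup Γ).map σ) := by
        rw [← hQ]
        exact isCyclic_of_injective (Subgroup.inclusion hg) (Subgroup.inclusion_injective hg)
      exact CfsgLib.StemExt.ker_eq_bot_of_isCyclic hstem
    · have hcomm : commutator (P : Subgroup Γ) = ⊥ := by
        obtain ⟨g₀, hg₀⟩ := hσ.1 g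
        obtain ⟨l, hl⟩ : ∃ l : F → Γ, ∀ a, σ (l a) = bor 1 a :=
          ⟨fun a => Function.surjInv hσ.1 (bor 1 a), fun a => Function.surjInv_eq hσ.1 _⟩
        have hK : ∀ z, σ z = 1 → ∀ w, w * z = z * w := fun z hz w =>
          Subgroup.mem_center_iff.1 (hσ.2.1 hz) w
        let β : F → F → Γ := fun a b => ⁅l a, l b⁆
        have hbor : ∀ a b : F, bor 1 (a + b) = bor 1 a * bor (1 : Fˣ) b := fun a b =>
          map_mul (upHom F) (Multiplicative.ofAdd a) (Multiplicative.ofAdd b)
        have hind : ∀ x x' y y' : Γ, σ x = σ x' → σ y = σ y' → ⁅x, y⁆ = ⁅x', y'⁆ := by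
          intro x x' y y' hx hy
          have hz := hK (x'⁻¹ * x) (by rw [map_mul, map_inv, hx, inv_mul_cancel])
          have hw := hK (y'⁻¹ * y) (by rw [map_mul, map_inv, hy, inv_mul_cancel])
          obtain ⟨z, hxz⟩ : ∃ z, x = x' * z := ⟨x'⁻¹ * x, by group⟩
          obtain ⟨w, hyw⟩ : ∃ w, y = y' * w := ⟨y'⁻¹ * y, by group⟩
          rw [show x'⁻¹ * x = z by rw [hxz]; group] at hz
          rw [show y'⁻¹ * y = w by rw [hyw]; group] at hw
          subst hxz hyw
          rw [commutatorElement_def, commutatorElement_def]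
          calc x' * z * (y' * w) * (x' * z)⁻¹ * (y' * w)⁻¹
              = x' * (z * (y' * w)) * z⁻¹ * x'⁻¹ * w⁻¹ * y'⁻¹ := by group
            _ = x' * y' * (w * x'⁻¹) * w⁻¹ * y'⁻¹ := by rw [← hz (y' * w)]; group
            _ = x' * y' * x'⁻¹ * y'⁻¹ := by rw [← hw x'⁻¹]; group
        have hcen : ∀ x y : Γ, σ x * σ y = σ y * σ x → ∀ w, w * ⁅x, y⁆ = ⁅x, y⁆ * w := fun x y e =>
          hK _ (by rw [map_commutatorElement, commutatorElement_eq_one_iff_mul_comm]; exact e)
        have hcl : ∀ a b, σ (l a) * σ (l b) = σ (l b) * σ (l a) := fun a b => by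
          rw [hl, hl, ← hbor, ← hbor, add_comm]
        have hβ : ∀ a b, β a b = 1 := by
          refine pairing_trivial β (fun a b c => ?_) (fun a b c => ?_) (fun t ht a b => ?_)
            (fun h2 => ?_) (fun h2 => ?_)
          · show ⁅l (a + b), l c⁆ = _
            rw [hind (l (a + b)) (l a * l b) (l c) (l c) (by rw [map_mul, hl, hl, hl, hbor]) rfl,
              commutatorElement_def]
            calc l a * l b * l c * (l a * l b)⁻¹ * (l c)⁻¹
                = (l a * ⁅l b, l c⁆) * (l a)⁻¹ * ⁅l a, l c⁆ := by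
                  rw [commutatorElement_def, commutatorElement_def]; group
              _ = ⁅l b, l c⁆ * ⁅l a, l c⁆ := by rw [hcen _ _ (hcl b c) (l a)]; group
              _ = β a c * β b c := (hcen _ _ (hcl b c) _).symm
          · show ⁅l a, l (b + c)⁆ = _
            rw [hind (l a) (l a) (l (b + c)) (l b * l c) rfl (by rw [map_mul, hl, hl, hl, hbor]),
              commutatorElement_def]
            calc l a * (l b * l c) * (l a)⁻¹ * (l b * l c)⁻¹
                = ⁅l a, l b⁆ * ((l b * ⁅l a, l c⁆) * (l b)⁻¹) := by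
                  rw [commutatorElement_def, commutatorElement_def]; group
              _ = β a b * β a c := by rw [hcen _ _ (hcl a c) (l b), mul_inv_cancel_right]
          · obtain ⟨d, hd⟩ := hσ.1 (dg (Units.mk0 t ht))
            have hc : ∀ a, σ (l (t ^ 2 * a)) = σ (d * l a * d⁻¹) := fun a => by
              rw [map_mul, map_mul, map_inv, hd, hl, hl, dg_conj, Units.val_mk0]
            show ⁅l (t ^ 2 * a), l (t ^ 2 * b)⁆ = ⁅l a, l b⁆
            rw [hind _ _ _ _ (hc a) (hc b), ← conjugate_commutatorElement,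
              hcen _ _ (hcl a b) d, mul_inv_cancel_right]
          · have : CharP F 2 := (CharP.charP_iff_prime_eq_zero Nat.prime_two).2 h2
            obtain rfl : ℓ = 2 := CharP.eq F ‹CharP F ℓ› this
            rcases Nat.lt_or_ge (n : ℕ) 3 with h | h
            · exact absurd (by rw [hn, show (n : ℕ) = 2 by omega]; norm_num) h4
            · rw [hn]
              calc 4 < 2 ^ 3 := by norm_num
                _ ≤ 2 ^ (n : ℕ) := Nat.pow_le_pow_right (by norm_num) h
          · have hℓ3 : 3 ≤ ℓ := by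
              have := hpp.two_le
              by_contra hh
              obtain rfl : ℓ = 2 := by omega
              exact h2 (CharTwo.two_eq_zero (R := F))
            rw [hn]
            rcases Nat.lt_or_ge ℓ 4 with h | h
            · obtain rfl : ℓ = 3 := by omega
              rcases Nat.lt_or_ge (n : ℕ) 3 with h' | h'
              · exact absurd (by rw [hn, show (n : ℕ) = 2 by omega]; norm_num) h9
              · calc 10 < 3 ^ 3 := by norm_num
                  _ ≤ 3 ^ (n : ℕ) := Nat.pow_le_pow_right (by norm_num) h'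
            · calc 10 < 4 ^ 2 := by norm_num
                _ ≤ ℓ ^ 2 := Nat.pow_le_pow_left h 2
                _ ≤ ℓ ^ (n : ℕ) := Nat.pow_le_pow_right hpp.pos hn2
        rw [commutator_def, Subgroup.commutator_eq_bot_iff_le_centralizer]
        intro x _
        rw [Subgroup.mem_centralizer_iff]
        intro y _
        apply Subtype.ext
        have hmem : ∀ w : (P : Subgroup Γ), ∃ a, σ (g₀⁻¹ * (w : Γ) * g₀) = bor 1 a := by
          intro w
          have : σ (w : Γ) ∈ (Q : Subgroup (SL F)) := by rw [hQ]; exact ⟨w, w.2, rfl⟩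
          obtain ⟨v, ⟨a, rfl⟩, hv⟩ := hg this
          refine ⟨Multiplicative.toAdd a, ?_⟩
          rw [map_mul, map_mul, map_inv, hg₀, ← hv]
          simp only [MulEquiv.coe_toMonoidHom, MulAut.conj_apply]
          show g⁻¹ * (g * upHom F a * g⁻¹) * g = upHom F a
          group
        obtain ⟨a, ha⟩ := hmem y
        obtain ⟨b, hb⟩ := hmem x
        have e := commutatorElement_eq_one_iff_mul_comm.1
          ((hind _ (l a) _ (l b) (by rw [ha, hl]) (by rw [hb, hl])).trans (hβ a b))
        show (y : Γ) * x = x * y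
        calc (y : Γ) * x = g₀ * ((g₀⁻¹ * (y : Γ) * g₀) * (g₀⁻¹ * (x : Γ) * g₀)) * g₀⁻¹ := by group
          _ = g₀ * ((g₀⁻¹ * (x : Γ) * g₀) * (g₀⁻¹ * (y : Γ) * g₀)) * g₀⁻¹ := by rw [e]
          _ = x * y := by group
      exact le_bot_iff.1 (hcomm ▸ hstem.2.2)
  · rcases eq_or_ne ℓ 2 with rfl | hℓ2
    · have hodd : Odd (Fintype.card F) := by
        rw [hn]
        exact (hpp.odd_of_ne_two fun e => hℓp e.symm).pow
      obtain ⟨k, -, ⟨e⟩⟩ := CfsgLib.Linear.SylowTwoSL.exists_quaternion hodd Q
      let e' : ((P : Subgroup Γ).map σ) ≃* QuaternionGroup (2 ^ k) :=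
        (MulEquiv.subgroupCongr hQ.symm).trans e
      let τ := e'.toMonoidHom.comp (σ.subgroupMap (P : Subgroup Γ))
      have hker : τ.ker = (σ.subgroupMap (P : Subgroup Γ)).ker :=
        MonoidHom.ker_mulEquiv_comp _ e'
      have hτ : Cfsg.IsStemExtension τ :=
        ⟨e'.surjective.comp hstem.1, hker ▸ hstem.2.1, hker ▸ hstem.2.2⟩
      rw [← hker]
      exact CfsgLib.StemExt.quaternion_ker hτ
    · have : IsCyclic ((P : Subgroup Γ).map σ) := by
        rw [← hQ]
        exact CfsgLib.Linear.SylowDim.isCyclic_sylow_sl (F := F) p hℓ2 hℓp Q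
      exact CfsgLib.StemExt.ker_eq_bot_of_isCyclic hstem

end CfsgLib.SL2Mult
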